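import Groth.Agent.PicProjLib.Chart
import Groth.Agent.ProjOverLib.Affine
import Mathlib.AlgebraicGeometry.Morphisms.Smooth

/-! Projective space is smooth over its base ring. -/

set_option autoImplicit false
set_option backward.isDefEq.respectTransparency false
set_option linter.style.haveILetI false

universe u

open CategoryTheory CategoryTheory.Limits AlgebraicGeometry MvPolynomial HomogeneousLocalization

namespace Groth.Agent.ProjSmoothLib

variable (n : ℕ) (R : Type u) [CommRing R]

theorem smooth_constAway (i : Fin (n + 1)) : (PicProjLib.constAway n R i).Smooth := by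
  have h : PicProjLib.constAway n R i = (PicProjLib.polyToAway n R i).comp (algebraMap R (MvPolynomial (Fin n) R)) :=
    RingHom.ext fun r => (eval₂Hom_C _ _ r).symm
  rw [h]
  exact RingHom.Smooth.comp (RingHom.smooth_algebraMap.2 ⟨inferInstance, inferInstance⟩) (RingHom.Smooth.of_bijective
    (RingEquiv.ofRingHom (PicProjLib.polyToAway n R i) (PicProjLib.awayToPoly n R i)
      (PicProjLib.polyToAway_comp n R i) (PicProjLib.awayToPoly_comp n R i)).bijective)

theorem smooth_toSpec : Smooth (CohB1.ProjSpace.toSpec n R) := by
  let 𝒰 := Proj.affineOpenCoverOfIrrelevantLESpan (CohB1.polyGrading n R)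
    (fun i : Fin (n + 1) => (X i : MvPolynomial (Fin (n + 1)) R)) (m := fun _ => 1) (fun i => ProjMap.X_mem i)
    (fun _ => one_pos) (ProjOverLib.irrelevant_eq_span n R).le
  refine IsZariskiLocalAtSource.of_openCover (P := @Smooth) 𝒰.openCover fun i => ?_
  show Smooth (ProjMap.chart (R := R) i ≫ CohB1.ProjSpace.toSpec n R)
  rw [ProjMap.awayι_toSpec, ← Spec.map_comp]
  exact (HasRingHomProperty.Spec_iff (P := @Smooth)).2 (smooth_constAway n R i)

/-- Projective space over an affine scheme is smooth. -/
theorem smooth_toBase : Smooth (CohB1.ProjSpaceOver.toBase n (Spec (CommRingCat.of R))) := by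
  obtain ⟨e, he⟩ := ProjOverLib.exists_iso_polyProj n R
  haveI := smooth_toSpec n R
  rw [← he]
  haveI : Smooth e.hom := inferInstance
  exact smooth_comp _ (CohB1.ProjSpace.toSpec n R)

end Groth.Agent.ProjSmoothLib
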